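import Mathlib.RingTheory.ZariskisMainTheorem
import Mathlib.RingTheory.Ideal.KrullsHeightTheorem
import Mathlib.RingTheory.HopkinsLevitzki
import Mathlib.RingTheory.FiniteLength
import Mathlib.RingTheory.Ideal.AssociatedPrime.Finiteness

/-!
Quasi-finiteness of essentially finite type local algebras with small closed fibre.
-/

set_option autoImplicit false
set_option linter.style.haveILetI false
set_option backward.isDefEq.respectTransparency false
set_option maxHeartbeats 1000000

universe u

open IsLocalRing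

noncomputable section

namespace Groth.Agent.EssQF

theorem eq_maximal_of_punctured {D : Type u} [CommRing D] [IsDomain D] [IsLocalRing D] [IsNoetherianRing D]
    {a : D} (ha : a ≠ 0) (h : ∀ P : Ideal D, P.IsPrime → P ≠ ⊥ → a ∈ P) {P : Ideal D} (hP : P.IsPrime)
    (hP0 : P ≠ ⊥) : P = maximalIdeal D := by
  classical
  by_cases hau : IsUnit a
  · exact absurd (h P hP hP0) fun hh => hP.ne_top (Ideal.eq_top_of_isUnit_mem _ hh hau)
  set T := (Ideal.span {a}).finite_minimalPrimes_of_isNoetherianRing.toFinset with hT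
  have hsub : ((maximalIdeal D : Ideal D) : Set D) ⊆ ⋃ p ∈ (T : Set (Ideal D)), (p : Set D) := by
    intro x hx
    simp only [Set.mem_iUnion]
    rcases eq_or_ne x 0 with rfl | hx0
    · obtain ⟨p, hp, -⟩ := Ideal.exists_minimalPrimes_le (J := maximalIdeal D)
        ((Ideal.span_singleton_le_iff_mem _).2 ((mem_maximalIdeal _).2 hau))
      exact ⟨p, by simpa [hT] using hp, zero_mem p⟩
    obtain ⟨p, hp, -⟩ := Ideal.exists_minimalPrimes_le (J := maximalIdeal D)
      ((Ideal.span_singleton_le_iff_mem _).2 hx)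
    haveI := hp.1.1
    have hxp : x ∈ p := (Ideal.span_singleton_le_iff_mem _).1 hp.1.2
    have hp0 : p ≠ ⊥ := fun e => hx0 (by simpa [e] using hxp)
    have hh : p.height ≤ 1 := Ideal.height_le_one_of_isPrincipal_of_mem_minimalPrimes _ _ hp
    have hap : a ∈ p := h p inferInstance hp0
    obtain ⟨r, hr, hrp⟩ := Ideal.exists_minimalPrimes_le (J := p) ((Ideal.span_singleton_le_iff_mem _).2 hap)
    haveI := hr.1.1
    rcases eq_or_ne r p with rfl | hne
    · exact ⟨r, by simpa [hT] using hr, hxp⟩
    · exfalso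
      have har : a ∈ r := (Ideal.span_singleton_le_iff_mem _).1 hr.1.2
      have hr0 : (⊥ : Ideal D) < r := bot_lt_iff_ne_bot.2 fun e => ha (by simpa [e] using har)
      haveI : (⊥ : Ideal D).IsPrime := Ideal.bot_prime
      have h6 : r.height < p.height := Ideal.height_strict_mono_of_isPrime_of_isPrime (lt_of_le_of_ne hrp hne)
      have h5 : (⊥ : Ideal D).height < r.height := Ideal.height_strict_mono_of_isPrime_of_isPrime hr0
      have h7 : r.height < 1 := h6.trans_le hh
      rw [Order.lt_one_iff_nonpos] at h7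
      exact absurd (h5.trans_le h7) (by simp)
  obtain ⟨p, hpT, hmp⟩ := (Ideal.subset_union_prime (f := id) ⊥ ⊥ fun p hp _ _ => by
    rw [hT, Set.Finite.mem_toFinset] at hp
    exact hp.1.1).1 hsub
  rw [hT, Set.Finite.mem_toFinset] at hpT
  have hpm : p = maximalIdeal D := le_antisymm (le_maximalIdeal hpT.1.1.ne_top) hmp
  refine le_antisymm (le_maximalIdeal hP.ne_top) ?_
  rw [← hpm]
  exact hpT.2 ⟨hP, (Ideal.span_singleton_le_iff_mem _).2 (h P hP hP0)⟩ (hpm ▸ le_maximalIdeal hP.ne_top)

variable {A D : Type u} [CommRing A] [CommRing D] [Algebra A D] [IsLocalRing D]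

theorem finite_of_isFiniteLength [Module.Finite A (ResidueField D)] {N : Type u} [AddCommGroup N] [Module D N]
    (h : IsFiniteLength D N) : ∀ [Module A N] [IsScalarTower A D N], Module.Finite A N := by
  induction h with
  | of_subsingleton => intro _ _; infer_instance
  | @of_simple_quotient M _ _ N hs hN ih =>
    intro _ _
    haveI : Module.Finite A N := ih
    obtain ⟨I, hI, ⟨e⟩⟩ := isSimpleModule_iff_quot_maximal.1 (inferInstance : IsSimpleModule D (M ⧸ N))
    obtain rfl := eq_maximalIdeal hI
    haveI : Module.Finite A (D ⧸ maximalIdeal D) := inferInstanceAs (Module.Finite A (ResidueField D))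
    haveI : Module.Finite A (M ⧸ N) := Module.Finite.equiv (e.restrictScalars A).symm
    haveI : Module.Finite A (N.restrictScalars A) := inferInstanceAs (Module.Finite A N)
    haveI : Module.Finite A (M ⧸ N.restrictScalars A) :=
      Module.Finite.equiv (Submodule.Quotient.restrictScalarsEquiv A N).symm
    exact Module.Finite.of_submodule_quotient (N.restrictScalars A)

theorem quasiFinite_of_fibre [Algebra.EssFiniteType A D] [IsLocalRing A] [IsLocalHom (algebraMap A D)]
    (h : Module.Finite A (D ⧸ (maximalIdeal A).map (algebraMap A D))) : Algebra.QuasiFinite A D := by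
  set T := Algebra.EssFiniteType.subalgebra A D
  haveI : Algebra.FiniteType A T := inferInstance
  let P : Ideal T := (maximalIdeal D).comap (algebraMap T D)
  haveI hloc : IsLocalization P.primeCompl D := by
    have e : P.primeCompl = Algebra.EssFiniteType.submonoid A D := by
      ext x
      simp only [P, Ideal.mem_primeCompl_iff, Ideal.mem_comap, mem_maximalIdeal, mem_nonunits_iff, not_not]
      rfl
    rw [e]
    infer_instance
  let e : Localization.AtPrime P ≃ₐ[A] D := (IsLocalization.algEquiv P.primeCompl _ _).restrictScalars A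
  have hu : P.under A = maximalIdeal A := by
    simp only [Ideal.under, P, Ideal.comap_comap, ← IsScalarTower.algebraMap_eq]
    exact maximalIdeal_comap (algebraMap A D)
  haveI : Algebra.WeaklyQuasiFiniteAt A P := by
    rw [Algebra.weaklyQuasiFiniteAt_iff]
    haveI := h
    refine (Algebra.QuasiFinite.iff_of_algEquiv (Ideal.quotientEquivAlg _ ((maximalIdeal A).map (algebraMap A D)) e ?_)).2
      inferInstance
    rw [hu, Ideal.map_map]
    congr 1
    exact e.toAlgHom.comp_algebraMap.symm
  haveI : Algebra.QuasiFiniteAt A P := Algebra.QuasiFiniteAt.of_weaklyQuasiFiniteAt P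
  exact (Algebra.QuasiFinite.iff_of_algEquiv e).1 inferInstance

theorem exists_quotient {A B : Type u} [CommRing A] [CommRing B] [IsLocalRing A] [IsLocalRing B] [IsNoetherianRing A]
    [Algebra A B] [IsLocalHom (algebraMap A B)] [Algebra.EssFiniteType A B]
    [Module.Finite (ResidueField A) (ResidueField B)] (V : Set (PrimeSpectrum B)) (hV : IsOpen V)
    (hne : ∃ q ∈ V, q.asIdeal.comap (algebraMap A B) ≠ maximalIdeal A) :
    ∃ q ∈ V, q.asIdeal.comap (algebraMap A B) ≠ maximalIdeal A ∧ Algebra.QuasiFinite A (B ⧸ q.asIdeal) := by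
  haveI : IsNoetherianRing B := Algebra.EssFiniteType.isNoetherianRing A B
  obtain ⟨q₀, hq₀, hq₀m⟩ := hne
  obtain ⟨a, ham, haq⟩ : ∃ a ∈ maximalIdeal A, algebraMap A B a ∉ q₀.asIdeal := by
    by_contra hc
    push Not at hc
    exact hq₀m (le_antisymm (le_maximalIdeal (q₀.isPrime.comap _).ne_top) hc)
  obtain ⟨_, ⟨f, rfl⟩, hfq, hfV⟩ := PrimeSpectrum.isTopologicalBasis_basic_opens.exists_subset_of_mem_open hq₀ hV
  set g := f * algebraMap A B a
  have hgq : g ∉ q₀.asIdeal := fun h => (q₀.isPrime.mem_or_mem h).elim hfq haq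
  obtain ⟨q, hqg, hqmax⟩ : ∃ q : PrimeSpectrum B, g ∉ q.asIdeal ∧ ∀ p : PrimeSpectrum B, g ∉ p.asIdeal → q ≤ p → p ≤ q := by
    obtain ⟨m, hm⟩ := set_has_maximal_iff_noetherian.2 (inferInstance : IsNoetherian B B)
      {I : Ideal B | I.IsPrime ∧ g ∉ I} ⟨q₀.asIdeal, q₀.isPrime, hgq⟩
    exact ⟨⟨m, hm.1.1⟩, hm.1.2, fun p hp hle => le_of_eq (by
      have := hm.2 p.asIdeal ⟨p.isPrime, hp⟩
      exact ((hle : m ≤ p.asIdeal).lt_or_eq.resolve_left this).symm)⟩
  refine ⟨q, hfV fun h => hqg (Ideal.mul_mem_right _ _ h), fun h => hqg (Ideal.mul_mem_left _ _ ?_), ?_⟩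
  · exact Ideal.mem_comap.1 (h.symm ▸ ham)
  set D := B ⧸ q.asIdeal
  haveI : IsLocalRing D := IsLocalRing.of_surjective' (Ideal.Quotient.mk q.asIdeal) Ideal.Quotient.mk_surjective
  haveI : IsLocalHom (Ideal.Quotient.mk q.asIdeal) := IsLocalHom.of_surjective _ Ideal.Quotient.mk_surjective
  haveI : IsLocalHom (algebraMap A D) := RingHom.isLocalHom_comp (Ideal.Quotient.mk q.asIdeal) (algebraMap A B)
  haveI : Algebra.EssFiniteType A D := Algebra.EssFiniteType.comp A B D
  have hg0 : Ideal.Quotient.mk q.asIdeal g ≠ 0 := fun h => hqg (Ideal.Quotient.eq_zero_iff_mem.1 h)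
  have hpun : ∀ P : Ideal D, P.IsPrime → P ≠ ⊥ → P = maximalIdeal D := by
    refine fun P hP hP0 => eq_maximal_of_punctured hg0 (fun Q hQ hQ0 => ?_) hP hP0
    by_contra hgQ
    have hle : q.asIdeal ≤ Q.comap (Ideal.Quotient.mk q.asIdeal) := fun x hx => by
      rw [Ideal.mem_comap, Ideal.Quotient.eq_zero_iff_mem.2 hx]; exact zero_mem _
    have h2 := hqmax ⟨Q.comap (Ideal.Quotient.mk q.asIdeal), hQ.comap _⟩ hgQ hle
    refine hQ0 (eq_bot_iff.2 fun x hx => ?_)
    obtain ⟨y, rfl⟩ := Ideal.Quotient.mk_surjective x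
    exact Ideal.mem_bot.2 (Ideal.Quotient.eq_zero_iff_mem.2 (h2 hx))
  set J := (maximalIdeal A).map (algebraMap A D)
  have hJ0 : J ≠ ⊥ := fun e => by
    have : algebraMap A D a ∈ J := Ideal.mem_map_of_mem _ ham
    rw [e, Ideal.mem_bot] at this
    exact hg0 (by rw [map_mul]; exact mul_eq_zero_of_right _ this)
  haveI : Ring.KrullDimLE 0 (D ⧸ J) := Ring.krullDimLE_zero_iff.2 fun P hP => by
    have hc : P.comap (Ideal.Quotient.mk J) = maximalIdeal D := hpun _ (hP.comap _) fun e => hJ0 (eq_bot_iff.2 (e ▸ fun x hx => by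
      rw [Ideal.mem_comap, Ideal.Quotient.eq_zero_iff_mem.2 hx]; exact zero_mem _))
    have h1 := Ideal.map_eq_top_or_isMaximal_of_surjective (Ideal.Quotient.mk J) Ideal.Quotient.mk_surjective
      (H := (hc.symm ▸ inferInstance : (P.comap (Ideal.Quotient.mk J)).IsMaximal))
    rw [Ideal.map_comap_of_surjective _ Ideal.Quotient.mk_surjective] at h1
    exact h1.resolve_left hP.ne_top
  haveI : IsNoetherianRing D := inferInstance
  haveI : IsArtinianRing (D ⧸ J) := isArtinianRing_iff_isNoetherianRing_krullDimLE_zero.2 ⟨inferInstance, ‹_›⟩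
  haveI : IsArtinian D (D ⧸ J) := isArtinian_of_surjective_algebraMap (S := D) (R := D ⧸ J) Ideal.Quotient.mk_surjective
  haveI : Module.Finite A (ResidueField D) := by
    haveI : Module.Finite A (ResidueField A) :=
      Module.Finite.of_surjective (Algebra.linearMap A (ResidueField A)) residue_surjective
    haveI : Module.Finite A (ResidueField B) := Module.Finite.trans (ResidueField A) _
    let φ : ResidueField B →+* ResidueField D := ResidueField.map (Ideal.Quotient.mk q.asIdeal)
    refine Module.Finite.of_surjective ({ φ with commutes' := fun r => ?_ } : ResidueField B →ₐ[A] ResidueField D).toLinearMap ?_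
    · rfl
    · intro y
      obtain ⟨d, rfl⟩ := residue_surjective y
      obtain ⟨b, rfl⟩ := Ideal.Quotient.mk_surjective d
      exact ⟨residue B b, rfl⟩
  exact quasiFinite_of_fibre (finite_of_isFiniteLength (D := D)
    (isFiniteLength_iff_isNoetherian_isArtinian.2 ⟨inferInstance, inferInstance⟩))

end Groth.Agent.EssQF
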